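import Cfsg.Agent.Mrg.Omega.IId.SymWr.Frame
import Cfsg.Agent.Mrg.Omega.IId.SymWr.LThm
import Cfsg.Agent.Mrg.Omega.IId.Triangle


/-!
# II.d, `SwBig`, T-T: the frame for "II.0h1 over `T = C_S(n)`" (bb OMEGA #19775, #19821, #19862, #20002)

`Fr S P V M` : `Sit` + characteristic 2 type + (H1) `O₂(C_G(n)) ≤ P` for all duads `n = pr M p q` + a T-T partner.
* `Fr.Qpp` : `O₂(C_G(n))` acts on the points inside `⟨(p q)⟩`;
* `Fr.V_le` : `V ≤ O₂(C_G(n))`; `Fr.comm_mem` : `[O₂(C_G(n)), V] ≤ ⟨n⟩`; `Fr.V_le_KK` : `V ≤ K_n`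
  (`K_n = Triangle.KK n = {g ∈ C_G(n) : [O₂(C_G(n)), g] ≤ ⟨n⟩}`);
* `Fr.perp` : the elements of `V` commuting with `(p q)` lie in `Ω₁Z(O₂(C_G(n)))`;
* `Fr.exists_h` : the partner for EVERY duad; `Fr.exists_w` : `w ∈ K_n`, `w² = 1`, acting as `(p q)`.
-/

set_option autoImplicit false
set_option linter.unusedSectionVars false

namespace Cfsg.Agent.Omega.IId.SymWr.Ht

open Subgroup Cfsg Cfsg.Agent.Omega.MinPar Cfsg.Agent.Omega.FFThm
open Cfsg.Agent.ZN (o2 zc)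
open Cfsg.Agent.Omega.Half (Amb amb_of_loc)
open Cfsg.Agent.Omega.Half.SymA (Pt E Mv pm)
open Cfsg.Agent.Omega.NSix.Base
open Cfsg.Agent.Omega.IId.LFour.SymF
open Cfsg.Agent.Omega.IId.Triangle (KK mem_KK KK_conj KK_le_o2)
open Cfsg.Agent.MinSimple.VModule (le_normalizer_o2 o2_isPGroup o2_le mem_zc)
open Cfsg.Agent.MinSimple.Geo (mem_o2_of_stab)

universe u

variable {G : Type u} [Group G] {k m : ℕ}

/-- the duad as a label -/
theorem pr_eq_rr {T P V : Subgroup G} {M : SymK T P V ⊥ k m} (hm : 1 ≤ m) {p q : Pt k m} (hpq : p.1 = q.1)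
    (hne : p ≠ q) : pr M p q = rr (lab M hm p.1) p.2 q.2 := by
  have hab : p.2 ≠ q.2 := fun e => hne (Prod.ext hpq e)
  refine Half.SymA.inj M (pr_mem M _ _) (rr_mem_V hm _ _ _) fun r => ?_
  rw [E_pr M hpq, E_rr hm _ hab]
  have e2 : ((p.1, q.2) : Pt k m) = q := Prod.ext hpq rfl
  rw [e2]
  by_cases h1 : r = p
  · have h2 : r ≠ q := fun e => hne (h1.symm.trans e)
    rw [if_pos h1, if_neg h2, if_pos (Or.inl h1), add_zero]
  · by_cases h2 : r = q
    · rw [if_neg h1, if_pos h2, if_pos (Or.inr h2), zero_add]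
    · rw [if_neg h1, if_neg h2, if_neg (not_or.2 ⟨h1, h2⟩), add_zero]

/-- The frame. -/
structure Fr (S : Sylow 2 G) (P V : Subgroup G) (M : SymK (S : Subgroup G) P V ⊥ k m) : Prop
    extends Sit S P V M where
  char2 : IsCharacteristicTwoType G
  Qle : ∀ {p q : Pt k m}, p.1 = q.1 → p ≠ q → o2 (centralizer ({pr M p q} : Set G)) ≤ P
  par : ∃ p q : Pt k m, p.1 = q.1 ∧ p ≠ q ∧ ∃ t ∈ centralizer ({pr M p q} : Set G), ∃ v ∈ V, ∃ w ∈ V,
    v * (t * w * t⁻¹) ≠ (t * w * t⁻¹) * v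

namespace Fr

variable {S : Sylow 2 G} {P V : Subgroup G} {M : SymK (S : Subgroup G) P V ⊥ k m} (h : Fr S P V M)
  {p q : Pt k m}
include h

theorem pr_sq : pr M p q * pr M p q = 1 := h.Vsq (pr_mem M p q)

theorem pr_ne (hpq : p.1 = q.1) (hne : p ≠ q) : pr M p q ≠ 1 := fun e => by
  have h1 := E_pr_left M hpq hne
  rw [e, Half.SymA.E_one M] at h1
  exact zero_ne_one h1

/-- `O₂(C_G(n))` acts inside `⟨(p q)⟩` -/
theorem Qpp (hpq : p.1 = q.1) (hne : p ≠ q) {g : G} (hg : g ∈ o2 (centralizer ({pr M p q} : Set G))) :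
    pp M g = 1 ∨ pp M g = Equiv.swap p q := by
  have hab : p.2 ≠ q.2 := fun e => hne (Prod.ext hpq e)
  have e2 : ((p.1, q.2) : Pt k m) = q := Prod.ext hpq rfl
  have hgP := h.Qle hpq hne hg
  have hle : o2 (NN (lab M h.hm1 p.1) p.2 q.2) ≤ P := by
    have := h.Qle hpq hne
    rwa [pr_eq_rr h.hm1 hpq hne] at this
  have hg' : g ∈ o2 (NN (lab M h.hm1 p.1) p.2 q.2) := by
    have := hg
    rwa [pr_eq_rr h.hm1 hpq hne] at this
  have hpair := (mem_NN_iff h.hm1 h.amb hab hgP).1 (o2_le _ hg')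
  have hin : ∀ r, r ≠ p → r ≠ q → pp M g r = r := fun r h1 h2 =>
    acts_inside h.hm1 h.amb hab hle hg' h1 (by rw [e2]; exact h2)
  rw [e2] at hpair
  have h1 := (hpair p).2 (Or.inl rfl)
  have h2 := (hpair q).2 (Or.inr rfl)
  change pp M g p = p ∨ pp M g p = q at h1
  change pp M g q = p ∨ pp M g q = q at h2
  rcases h1 with h1 | h1
  · left
    have h3 : pp M g q = q := h2.resolve_left fun e => hne ((pp M g).injective (h1.trans e.symm))
    ext1 r
    by_cases e1 : r = p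
    · rw [e1, h1]; rfl
    by_cases e3 : r = q
    · rw [e3, h3]; rfl
    · exact hin r e1 e3
  · right
    have h3 : pp M g q = p := h2.resolve_right fun e => hne ((pp M g).injective (h1.trans e.symm))
    ext1 r
    by_cases e1 : r = p
    · rw [e1, h1, Equiv.swap_apply_left]
    by_cases e3 : r = q
    · rw [e3, h3, Equiv.swap_apply_right]
    · rw [hin r e1 e3, Equiv.swap_apply_of_ne_of_ne e1 e3]

/-- an element acting trivially or as `(p q)` commutes with the perp of the duad -/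
theorem comm_perp_of {g : G} (hgP : g ∈ P) (hg : pp M g = 1 ∨ pp M g = Equiv.swap p q) {v : G} (hv : v ∈ V)
    (hE : E M v p = E M v q) : g * v = v * g := by
  rw [h.comm_iff hgP hv]
  intro r
  rcases hg with e | e
  · rw [e]; rfl
  · rw [e]
    by_cases e1 : r = p
    · rw [e1, Equiv.swap_apply_left, hE]
    by_cases e2 : r = q
    · rw [e2, Equiv.swap_apply_right, hE]
    · rw [Equiv.swap_apply_of_ne_of_ne e1 e2]

theorem perp_comm (hpq : p.1 = q.1) (hne : p ≠ q) {g : G} (hg : g ∈ o2 (centralizer ({pr M p q} : Set G))) {v : G}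
    (hv : v ∈ V) (hE : E M v p = E M v q) : g * v = v * g :=
  h.comm_perp_of (h.Qle hpq hne hg) (h.Qpp hpq hne hg) hv hE

/-- the action of an element inducing `(p q)` -/
theorem conj_swap {g : G} (hgP : g ∈ P) (hpq : p.1 = q.1) (hg : pp M g = Equiv.swap p q) {v : G} (hv : v ∈ V)
    (hE : E M v p ≠ E M v q) : g * v * g⁻¹ = v * pr M p q := by
  refine Half.SymA.inj M (h.amb.conj_mem hgP hv) (mul_mem hv (pr_mem M _ _)) fun r => ?_
  have hne : p ≠ q := fun e => hE (by rw [e])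
  rw [E_conj' hgP hv, Half.SymA.E_mul M hv (pr_mem M _ _), E_pr M hpq, hg, Equiv.swap_inv]
  have key : ∀ x y : ZMod 2, x ≠ y → y = x + 1 := by decide
  by_cases e1 : r = p
  · rw [e1, Equiv.swap_apply_left, if_pos rfl, if_neg hne, add_zero]
    exact key _ _ hE
  by_cases e2 : r = q
  · rw [e2, Equiv.swap_apply_right, if_pos rfl, if_neg hne.symm, zero_add]
    exact key _ _ hE.symm
  · rw [Equiv.swap_apply_of_ne_of_ne e1 e2, if_neg e1, if_neg e2, add_zero, add_zero]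

/-- `[O₂(C_G(n)), V] ≤ ⟨n⟩` -/
theorem comm_mem (hpq : p.1 = q.1) (hne : p ≠ q) {g : G} (hg : g ∈ o2 (centralizer ({pr M p q} : Set G))) {v : G}
    (hv : v ∈ V) : g * v * g⁻¹ = v ∨ g * v * g⁻¹ = v * pr M p q := by
  by_cases hE : E M v p = E M v q
  · left; rw [h.perp_comm hpq hne hg hv hE]; group
  · rcases h.Qpp hpq hne hg with e | e
    · left
      rw [h.comm_perp_of (p := p) (q := p) (h.Qle hpq hne hg) (Or.inl e) hv rfl]; group
    · right; exact h.conj_swap (h.Qle hpq hne hg) hpq e hv hE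

/-- `V ≤ K_n` -/
theorem V_le_KK (hpq : p.1 = q.1) (hne : p ≠ q) : V ≤ KK (pr M p q) := by
  intro v hv
  refine mem_KK.2 ⟨h.Vcomm hv (pr_mem M p q), fun g hg => ?_⟩
  have hvi : ∀ {x : G}, x ∈ V → x⁻¹ = x := fun hx => inv_eq_of_mul_eq_one_left (h.Vsq hx)
  have e : v * g * v⁻¹ * g⁻¹ = v * (g * v * g⁻¹)⁻¹ := by group
  rw [e]
  rcases h.comm_mem hpq hne hg hv with e1 | e1
  · rw [e1, mul_inv_cancel]; exact one_mem _
  · have e2 : v * (v * pr M p q)⁻¹ = (pr M p q)⁻¹ := by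
      rw [h.Vcomm hv (pr_mem M p q)]; group
    rw [e1, e2]; exact inv_mem (mem_zpowers _)

section fin

variable [Finite G]

theorem KK_le (hpq : p.1 = q.1) (hne : p ≠ q) : KK (pr M p q) ≤ o2 (centralizer ({pr M p q} : Set G)) := by
  intro g hg
  have h1 := mem_KK.1 hg
  exact mem_o2_of_stab h.char2 h.pr_sq (h.pr_ne hpq hne) (mem_centralizer_singleton_iff.2 h1.1) h1.2

/-- `V ≤ O₂(C_G(n))` -/
theorem V_le (hpq : p.1 = q.1) (hne : p ≠ q) : V ≤ o2 (centralizer ({pr M p q} : Set G)) :=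
  (h.V_le_KK hpq hne).trans (h.KK_le hpq hne)

/-- the elements of `V` commuting with `(p q)` lie in `Ω₁Z(O₂(C_G(n)))` -/
theorem perp (hpq : p.1 = q.1) (hne : p ≠ q) {v : G} (hv : v ∈ V) (hE : E M v p = E M v q) :
    v ∈ zc (o2 (centralizer ({pr M p q} : Set G))) :=
  mem_zc.2 ⟨h.V_le hpq hne hv, fun g hg => h.perp_comm hpq hne hg hv hE, by rw [pow_two]; exact h.Vsq hv⟩

/-- the partner for every duad: `t ∈ C_G(n)`, and `t v t⁻¹`, `t⁻¹ v t` act as `(p q)` for `v ∈ V` outside the perp -/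
theorem exists_h (hpq : p.1 = q.1) (hne : p ≠ q) : ∃ t ∈ centralizer ({pr M p q} : Set G),
    ∀ v ∈ V, E M v p ≠ E M v q →
      (t * v * t⁻¹ ∈ KK (pr M p q) ∧ pp M (t * v * t⁻¹) = Equiv.swap p q) ∧
      (t⁻¹ * v * t ∈ KK (pr M p q) ∧ pp M (t⁻¹ * v * t) = Equiv.swap p q) := by
  obtain ⟨p', q', hpq', hne', t', ht', v', hv', w', hw', hcc⟩ := h.par
  obtain ⟨g, hg, hgp⟩ := exists_conj_pr h.toSit hpq' hne' hpq hne
  have hcV : ∀ {x : G}, x ∈ V → g * x * g⁻¹ ∈ V := fun hx => h.amb.conj_mem hg hx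
  obtain ⟨t, ht⟩ : ∃ t, t = g * t' * g⁻¹ := ⟨_, rfl⟩
  have htn : t * pr M p q = pr M p q * t := by
    have h1 := mem_centralizer_singleton_iff.1 ht'
    rw [ht, ← hgp]
    calc g * t' * g⁻¹ * (g * pr M p' q' * g⁻¹) = g * (t' * pr M p' q') * g⁻¹ := by group
      _ = g * pr M p' q' * g⁻¹ * (g * t' * g⁻¹) := by rw [h1]; group
  -- noncommuting elements
  obtain ⟨v, hv, w, hw, hvw⟩ : ∃ v ∈ V, ∃ w ∈ V, v * (t * w * t⁻¹) ≠ (t * w * t⁻¹) * v := by
    refine ⟨g * v' * g⁻¹, hcV hv', g * w' * g⁻¹, hcV hw', fun e => hcc ?_⟩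
    rw [ht] at e
    have e1 : g * v' * g⁻¹ * (g * t' * g⁻¹ * (g * w' * g⁻¹) * (g * t' * g⁻¹)⁻¹) =
        g * (v' * (t' * w' * t'⁻¹)) * g⁻¹ := by group
    have e2 : g * t' * g⁻¹ * (g * w' * g⁻¹) * (g * t' * g⁻¹)⁻¹ * (g * v' * g⁻¹) =
        g * (t' * w' * t'⁻¹ * v') * g⁻¹ := by group
    rw [e1, e2] at e
    exact mul_left_cancel (mul_right_cancel e)
  have hKK : ∀ {s : G}, s * pr M p q = pr M p q * s → ∀ x ∈ V, s * x * s⁻¹ ∈ KK (pr M p q) := by
    intro s hs x hx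
    have h1 := KK_conj (h := s) (h.V_le_KK hpq hne hx)
    rwa [show s * pr M p q * s⁻¹ = pr M p q by rw [hs]; group] at h1
  -- the key: `s` with noncommuting elements
  have key : ∀ {s : G}, s * pr M p q = pr M p q * s → ∀ {a b : G}, a ∈ V → b ∈ V →
      a * (s * b * s⁻¹) ≠ (s * b * s⁻¹) * a → ∀ x ∈ V, E M x p ≠ E M x q → pp M (s * x * s⁻¹) = Equiv.swap p q := by
    intro s hs a b ha hb hab x hx hxE
    have hQ := fun y (hy : y ∈ V) => h.KK_le hpq hne (hKK hs y hy)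
    -- the perp of `n` is normalised
    have hperp : ∀ y ∈ V, E M y p = E M y q → pp M (s * y * s⁻¹) = 1 := by
      intro y hy hyE
      rw [h.eq_one_iff (h.Qle hpq hne (hQ y hy)), mem_centralizer_iff]
      intro c hc
      have h2 : s⁻¹ * c * s ∈ o2 (centralizer ({pr M p q} : Set G)) := by
        have h3 : s⁻¹ ∈ centralizer ({pr M p q} : Set G) :=
          inv_mem (mem_centralizer_singleton_iff.2 hs)
        have := (mem_normalizer_iff.1 (le_normalizer_o2 _ h3) c).1 (h.V_le hpq hne hc)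
        rwa [inv_inv] at this
      have h3 := h.perp_comm hpq hne h2 hy hyE
      calc c * (s * y * s⁻¹) = s * (s⁻¹ * c * s * y) * s⁻¹ := by group
        _ = s * (y * (s⁻¹ * c * s)) * s⁻¹ := by rw [h3]
        _ = s * y * s⁻¹ * c := by group
    have hbE : E M b p ≠ E M b q := fun e => by
      have h1 := hperp b hb e
      rw [h.eq_one_iff (h.Qle hpq hne (hQ b hb)), mem_centralizer_iff] at h1
      exact hab (h1 a ha)
    -- `b x` is in the perp
    have hbx : E M (b * x) p = E M (b * x) q := by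
      rw [Half.SymA.E_mul M hb hx, Half.SymA.E_mul M hb hx]
      have k2 : ∀ x y z w : ZMod 2, x ≠ y → z ≠ w → x + z = y + w := by decide
      exact k2 _ _ _ _ hbE hxE
    have h2 := hperp _ (mul_mem hb hx) hbx
    have hb2 : pp M (s * b * s⁻¹) = Equiv.swap p q := by
      refine (h.Qpp hpq hne (hQ b hb)).resolve_left fun e => hab ?_
      rw [h.eq_one_iff (h.Qle hpq hne (hQ b hb)), mem_centralizer_iff] at e
      exact e a ha
    have e : s * x * s⁻¹ = (s * b * s⁻¹)⁻¹ * (s * (b * x) * s⁻¹) := by group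
    rw [e, h.mul (inv_mem (h.Qle hpq hne (hQ b hb))) (h.Qle hpq hne (hQ _ (mul_mem hb hx))),
      h.inv (h.Qle hpq hne (hQ b hb)), h2, hb2, mul_one, Equiv.swap_inv]
  have htn' : t⁻¹ * pr M p q = pr M p q * t⁻¹ := by
    calc t⁻¹ * pr M p q = t⁻¹ * (pr M p q * t) * t⁻¹ := by group
      _ = t⁻¹ * (t * pr M p q) * t⁻¹ := by rw [htn]
      _ = pr M p q * t⁻¹ := by group
  refine ⟨t, mem_centralizer_singleton_iff.2 htn, fun x hx hxE => ⟨⟨hKK htn x hx, ?_⟩, ?_, ?_⟩⟩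
  · exact key htn hv hw hvw x hx hxE
  · have := hKK htn' x hx
    rwa [inv_inv] at this
  · have := key htn' hw hv (fun e => hvw ?_) x hx hxE
    · rwa [inv_inv] at this
    · rw [inv_inv] at e
      calc v * (t * w * t⁻¹) = t * (t⁻¹ * v * t * w) * t⁻¹ := by group
        _ = t * (w * (t⁻¹ * v * t)) * t⁻¹ := by rw [e]
        _ = t * w * t⁻¹ * v := by group

/-- `w ∈ K_n` of order 2 acting as `(p q)` -/
theorem exists_w (hpq : p.1 = q.1) (hne : p ≠ q) : ∃ w ∈ KK (pr M p q), w * w = 1 ∧ pp M w = Equiv.swap p q := by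
  obtain ⟨t, ht, h1⟩ := h.exists_h hpq hne
  obtain ⟨c, hc1, hc2⟩ := Half.SymA.exists_third h.hm1 p.2 q.2
  have hpc : p.1 = ((p.1, c) : Pt k m).1 := rfl
  have hqc : q ≠ (p.1, c) := fun e => hc2 (by rw [e])
  have hpc' : p ≠ (p.1, c) := fun e => hc1 (congrArg Prod.snd e).symm
  have hE : E M (pr M p (p.1, c)) p ≠ E M (pr M p (p.1, c)) q := by
    rw [E_pr_left M hpc hpc', E_pr_of_ne M hpc hne.symm hqc]
    exact one_ne_zero
  obtain ⟨⟨h2, h3⟩, -⟩ := h1 _ (pr_mem M p (p.1, c)) hE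
  refine ⟨_, h2, ?_, h3⟩
  have e : t * pr M p (p.1, c) * t⁻¹ * (t * pr M p (p.1, c) * t⁻¹) =
      t * (pr M p (p.1, c) * pr M p (p.1, c)) * t⁻¹ := by group
  rw [e, h.pr_sq]; group

end fin

end Fr

end Cfsg.Agent.Omega.IId.SymWr.Ht
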