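import Cfsg.Agent.Mrg.Omega.IId.SymWr.Ht.Fr
import Cfsg.Agent.Mrg.Omega.IId.SymWr.LThm
import Cfsg.Agent.Mrg.Omega.HOneTwo.Basic
import Cfsg.Agent.Mrg.Omega.HT.Main
import Cfsg.Agent.Mrg.Omega.IId.SymWr.Fours

section


/-!
# II.d, `SwBig`, T-T: the line `{1, pq, pr, qr}` of three points of one summand

* `Tri p q r` : three different points of one summand; `Fr.line3` : `Ln (pr M p q) (pr M p r)`;
* `Fr.bt3` : the structure `BT`; `X3 h t = ⟨V_l^{C(x)} : x ∈ V_l#⟩`;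
* `Fr.X_le_P`, `Fr.X_fix`, `Fr.X_comm` : `X ≤ P` moves only the points `p, q, r` and centralises the `v ∈ V` which are
  constant on them;
* `tn S M μ x = C_S(x μ(x))`; `Fr.zc_tn` : `Ω₁Z(T) ≤ V`, constant on the `S`-pairs, `0` on the fixed points;
* `Fr.hdec` : `Ω₁Z(T) = ⟨n⟩ Z₀`.
-/

set_option autoImplicit false
set_option linter.unusedSectionVars false

namespace Cfsg.Agent.Omega.IId.SymWr.Ht

open Subgroup Cfsg Cfsg.Agent.Omega.MinPar Cfsg.Agent.Omega.FFThm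
open Cfsg.Agent.ZN (o2 zc)
open Cfsg.Agent.Omega.Half (Amb amb_of_loc)
open Cfsg.Agent.Omega.Half.SymA (Pt E Mv pm)
open Cfsg.Agent.Omega.HT.LineOf (Ln ln pts dd)
open Cfsg.Agent.Omega.BTwo (BT XX WW QQ O2)
open Cfsg.Agent.Omega.IId.Triangle (KK mem_KK KK_conj KK_le_o2)
open Cfsg.Agent.MinSimple.VModule (le_normalizer_o2 o2_isPGroup o2_le mem_zc zc_le)

universe u

variable {G : Type u} [Group G] {k m : ℕ}

/-- three different points of one summand -/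
structure Tri (p q r : Pt k m) : Prop where
  pq : p.1 = q.1
  pr : p.1 = r.1
  n1 : p ≠ q
  n2 : p ≠ r
  n3 : q ≠ r

namespace Tri

variable {p q r : Pt k m} (t : Tri p q r)
include t

theorem qr : q.1 = r.1 := t.pq.symm.trans t.pr

end Tri

namespace Fr

variable {S : Sylow 2 G} {P V : Subgroup G} {M : SymK (S : Subgroup G) P V ⊥ k m} (h : Fr S P V M)
  {p q r : Pt k m}
include h

/-- the line of three points -/
theorem line3 (t : Tri p q r) : Ln (pr M p q) (pr M p r) where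
  aa := h.pr_sq
  bb := h.pr_sq
  comm := h.Vcomm (pr_mem M _ _) (pr_mem M _ _)
  a1 := h.pr_ne t.pq t.n1
  b1 := h.pr_ne t.pr t.n2
  ne := fun e => by
    have h1 : E M (pr M p q) q = 1 := E_pr_right M t.pq t.n1
    rw [e, E_pr_of_ne M t.pr t.n1.symm t.n3] at h1
    exact zero_ne_one h1

theorem dd_two (t : Tri p q r) : pr M p q * pr M p r = pr M q r := by
  rw [pr_comm M t.pq, pr_mul M t.pq.symm t.pr]

/-- the three points -/
theorem dd_cases (t : Tri p q r) (i : Fin 3) : ∃ a b c : Pt k m, a.1 = b.1 ∧ a.1 = c.1 ∧ a ≠ b ∧ a ≠ c ∧ b ≠ c ∧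
    dd (pr M p q) (pr M p r) i = pr M a b ∧ (∃ j, dd (pr M p q) (pr M p r) j = pr M a c) ∧
    (a = p ∨ a = q ∨ a = r) ∧ (b = p ∨ b = q ∨ b = r) := by
  fin_cases i
  · exact ⟨p, q, r, t.pq, t.pr, t.n1, t.n2, t.n3, rfl, ⟨1, rfl⟩, Or.inl rfl, Or.inr (Or.inl rfl)⟩
  · exact ⟨p, r, q, t.pr, t.pq, t.n2, t.n1, t.n3.symm, rfl, ⟨0, rfl⟩, Or.inl rfl, Or.inr (Or.inr rfl)⟩
  · refine ⟨q, r, p, t.qr, t.pq.symm, t.n3, t.n1.symm, t.n2.symm, h.dd_two t, ⟨0, pr_comm M t.pq⟩,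
      Or.inr (Or.inl rfl), Or.inr (Or.inr rfl)⟩

theorem dd_mem_V (t : Tri p q r) (i : Fin 3) : dd (pr M p q) (pr M p r) i ∈ V := by
  obtain ⟨a, b, c, -, -, -, -, -, e, -⟩ := h.dd_cases t i
  rw [e]; exact pr_mem M a b

theorem ln_le (t : Tri p q r) : ln (h.line3 t) ≤ V := by
  rintro x (rfl | ⟨i, rfl⟩)
  · exact one_mem _
  · exact h.dd_mem_V t i

variable [Finite G]

/-- the structure `BT` -/
theorem bt3 (t : Tri p q r) : BT (ln (h.line3 t)) (pts (pr M p q) (pr M p r)) := by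
  refine (h.line3 t).bt (fun i => ?_) (fun i g hg j => ?_) (fun i => ?_)
  · obtain ⟨a, b, c, e1, -, e2, -, -, e, -⟩ := h.dd_cases t i
    rw [e]
    exact (h.ln_le t).trans (h.V_le e1 e2)
  · obtain ⟨a, b, c, e1, -, e2, -, -, e, -⟩ := h.dd_cases t i
    rw [e] at hg
    rw [(h.line3 t).mem_pts, e]
    rcases h.comm_mem e1 e2 hg (h.dd_mem_V t j) with h1 | h1
    · left; rw [h1, mul_inv_cancel]
    · right
      rw [h1, h.Vcomm (h.dd_mem_V t j) (pr_mem M a b), mul_inv_cancel_right]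
  · obtain ⟨a, b, c, e1, e1', e2, e2', e3, e, ⟨j, hj⟩, -⟩ := h.dd_cases t i
    obtain ⟨s, hs, h1⟩ := h.exists_h e1 e2
    have hE : E M (pr M a c) a ≠ E M (pr M a c) b := by
      rw [E_pr_left M e1' e2', E_pr_of_ne M e1' e2.symm e3]
      exact one_ne_zero
    obtain ⟨⟨h2, h3⟩, -⟩ := h1 _ (pr_mem M a c) hE
    refine ⟨s, by rw [e]; exact hs, j, j, fun h4 => ?_⟩
    rw [hj] at h4
    have h5 := h.conj_swap (h.Qle e1 e2 (h.KK_le e1 e2 h2)) e1 h3 (pr_mem M a c) hE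
    rw [mul_inv_eq_iff_eq_mul] at h5
    rw [h4] at h5
    have h6 : s * pr M a c * s⁻¹ = pr M a b * (s * pr M a c * s⁻¹) := by
      apply mul_left_cancel (a := pr M a c)
      rw [h5, mul_assoc]
    have h7 : pr M a b = 1 := by
      have := mul_right_cancel (h6.symm.trans (one_mul _).symm)
      exact this
    exact h.pr_ne e1 e2 h7

/-- `X` -/
noncomputable abbrev X3 (h : Fr S P V M) (t : Tri p q r) : Subgroup G := XX (ln (h.line3 t)) (pts (pr M p q) (pr M p r))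

/-- `X` lies in every subgroup containing the `O₂(C_G(x))` -/
theorem X_le (t : Tri p q r) {H : Subgroup G}
    (hH : ∀ a b : Pt k m, (a = p ∨ a = q ∨ a = r) → (b = p ∨ b = q ∨ b = r) → a.1 = b.1 → a ≠ b →
      o2 (centralizer ({pr M a b} : Set G)) ≤ H) : h.X3 t ≤ H := by
  refine iSup_le fun i => ?_
  obtain ⟨a, b, c, e1, -, e2, -, -, e, -, ha, hb⟩ := h.dd_cases t i
  refine ((h.bt3 t).W_le_Q i).trans ?_
  show O2 (normalizer (pts (pr M p q) (pr M p r) i : Set G)) ≤ H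
  rw [(h.line3 t).normalizer_pts i, e]
  exact hH a b ha hb e1 e2

theorem X_le_P (t : Tri p q r) : h.X3 t ≤ P := h.X_le t fun _ _ _ _ h1 h2 => h.Qle h1 h2

/-- `X` moves only `p, q, r` -/
theorem X_fix (t : Tri p q r) {g : G} (hg : g ∈ h.X3 t) {s : Pt k m} (h1 : s ≠ p) (h2 : s ≠ q) (h3 : s ≠ r) :
    pp M g s = s := by
  let H : Subgroup G :=
    { carrier := {g | g ∈ P ∧ pp M g s = s}
      one_mem' := ⟨one_mem _, by rw [h.one]; rfl⟩
      mul_mem' := by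
        rintro a b ⟨ha, ha1⟩ ⟨hb, hb1⟩
        refine ⟨mul_mem ha hb, ?_⟩
        rw [h.mul ha hb, Equiv.Perm.mul_apply, hb1, ha1]
      inv_mem' := by
        rintro a ⟨ha, ha1⟩
        refine ⟨inv_mem ha, ?_⟩
        rw [h.inv ha, Equiv.Perm.inv_eq_iff_eq, ha1] }
  have hle : h.X3 t ≤ H := by
    refine h.X_le t fun a b ha hb e1 e2 y hy => ⟨h.Qle e1 e2 hy, ?_⟩
    have hsa : s ≠ a := by rcases ha with rfl | rfl | rfl <;> assumption
    have hsb : s ≠ b := by rcases hb with rfl | rfl | rfl <;> assumption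
    rcases h.Qpp e1 e2 hy with e | e
    · rw [e]; rfl
    · rw [e, Equiv.swap_apply_of_ne_of_ne hsa hsb]
  exact (hle hg).2

/-- `X` centralises the elements of `V` which are constant on `p, q, r` -/
theorem X_comm (t : Tri p q r) {v : G} (hv : v ∈ V) (h1 : E M v p = E M v q) (h2 : E M v p = E M v r) {g : G}
    (hg : g ∈ h.X3 t) : g * v = v * g := by
  have hle : h.X3 t ≤ centralizer ({v} : Set G) := by
    refine h.X_le t fun a b ha hb e1 e2 y hy => ?_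
    rw [mem_centralizer_singleton_iff]
    refine h.perp_comm e1 e2 hy hv ?_
    have key : ∀ c, (c = p ∨ c = q ∨ c = r) → E M v c = E M v p := by
      rintro c (rfl | rfl | rfl)
      · rfl
      · exact h1.symm
      · exact h2.symm
    rw [key a ha, key b hb]
  exact mem_centralizer_singleton_iff.1 (hle hg)

end Fr

/-! ### `T = C_S(n)` -/

/-- `C_S(x μ(x))` -/
def tn (S : Sylow 2 G) {P V : Subgroup G} (M : SymK (S : Subgroup G) P V ⊥ k m) (μ : Equiv.Perm (Pt k m))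
    (x : Pt k m) : Subgroup G := (S : Subgroup G) ⊓ centralizer ({pr M x (μ x)} : Set G)

namespace Fr

variable {S : Sylow 2 G} {P V : Subgroup G} {M : SymK (S : Subgroup G) P V ⊥ k m} (h : Fr S P V M)
  {μ ν : Equiv.Perm (Pt k m)} (F : Fours M μ ν) {x : Pt k m} (hx : x.2 ≠ 0)
include h F hx

/-- the points `x`, `μ x`, `0` -/
theorem tri : Tri x (μ x) (x.1, 0) where
  pq := (F.mfst x).symm
  pr := rfl
  n1 := (F.mne x hx).symm
  n2 := fun e => hx (congrArg Prod.snd e)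
  n3 := fun e => hx (F.mnz.1 (congrArg Prod.snd e))

theorem tn_pp {s : G} (hs : s ∈ tn S M μ x) : (pp M s x = x ∧ pp M s (μ x) = μ x) ∨
    (pp M s x = μ x ∧ pp M s (μ x) = x) := by
  have t := h.tri F hx
  have hsP := h.SP hs.1
  have h1 := (h.comm_iff hsP (pr_mem M x (μ x))).1 (mem_centralizer_singleton_iff.1 hs.2)
  have key : ∀ c, E M (pr M x (μ x)) c = 1 → c = x ∨ c = μ x := by
    intro c hc
    by_contra hcon
    push Not at hcon
    rw [E_pr_of_ne M t.pq hcon.1 hcon.2] at hc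
    exact zero_ne_one hc
  have h2 := key _ ((h1 x).trans (E_pr_left M t.pq t.n1))
  have h3 := key _ ((h1 (μ x)).trans (E_pr_right M t.pq t.n1))
  rcases h2 with h2 | h2
  · exact Or.inl ⟨h2, h3.resolve_left fun e => t.n1 ((pp M s).injective (h2.trans e.symm))⟩
  · exact Or.inr ⟨h2, h3.resolve_right fun e => t.n1 ((pp M s).injective (h2.trans e.symm))⟩

omit h F hx in
theorem zero_eq {y z : Pt k m} (h1 : y.1 = z.1) (h2 : y.2 = 0) : y = (z.1, 0) := Prod.ext h1 h2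

/-- the fixed point of `S` in the summand is fixed -/
theorem tn_zero {s : G} (hs : s ∈ tn S M μ x) : pp M s (x.1, 0) = (x.1, 0) := by
  have hsP := h.SP hs.1
  have h1 : (pp M s (x.1, 0)).2 = 0 := (h.snd hs.1).2 rfl
  have h2 : (pp M s (x.1, 0)).1 = (pp M s x).1 := h.fst hsP rfl
  have h3 : (pp M s x).1 = x.1 := by
    rcases h.tn_pp F hx hs with e | e
    · rw [e.1]
    · rw [e.1, F.mfst]
  exact Prod.ext (h2.trans h3) h1

/-- `T` normalises the line -/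
theorem tn_norm [Finite G] : tn S M μ x ≤ normalizer (ln (h.line3 (h.tri F hx)) : Set G) := by
  have t := h.tri F hx
  intro s hs
  have hsP := h.SP hs.1
  refine BTwo.mem_normalizer_of_conj ?_
  have h0 := h.tn_zero F hx hs
  have e0 : dd (pr M x (μ x)) (pr M x (x.1, 0)) 0 = pr M x (μ x) := rfl
  have e1 : dd (pr M x (μ x)) (pr M x (x.1, 0)) 1 = pr M x (x.1, 0) := rfl
  have e2 : dd (pr M x (μ x)) (pr M x (x.1, 0)) 2 = pr M (μ x) (x.1, 0) := h.dd_two t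
  rintro y (rfl | ⟨i, rfl⟩)
  · left; group
  · right
    have k0 : s * pr M x (μ x) * s⁻¹ = pr M (pp M s x) (pp M s (μ x)) := h.conj_pr hsP t.pq
    have k1 : s * pr M x (x.1, 0) * s⁻¹ = pr M (pp M s x) (pp M s (x.1, 0)) := h.conj_pr hsP t.pr
    have k2 : s * pr M (μ x) (x.1, 0) * s⁻¹ = pr M (pp M s (μ x)) (pp M s (x.1, 0)) := h.conj_pr hsP t.qr
    rw [h0] at k1 k2
    rcases h.tn_pp F hx hs with ⟨a1, a2⟩ | ⟨a1, a2⟩
    · rw [a1, a2] at k0
      rw [a1] at k1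
      rw [a2] at k2
      fin_cases i
      · exact ⟨0, k0⟩
      · exact ⟨1, k1⟩
      · refine ⟨2, ?_⟩
        show s * dd (pr M x (μ x)) (pr M x (x.1, 0)) 2 * s⁻¹ = _
        rw [e2, k2]
    · rw [a1, a2, pr_comm M t.pq.symm] at k0
      rw [a1] at k1
      rw [a2] at k2
      fin_cases i
      · exact ⟨0, k0⟩
      · refine ⟨2, ?_⟩
        rw [e2]; exact k1
      · refine ⟨1, ?_⟩
        show s * dd (pr M x (μ x)) (pr M x (x.1, 0)) 2 * s⁻¹ = _
        rw [e2, k2, e1]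

theorem V_le_tn : V ≤ tn S M μ x := fun _ hv =>
  ⟨h.VS hv, mem_centralizer_singleton_iff.2 (h.Vcomm hv (pr_mem M _ _))⟩

theorem Q_le_tn : o2 P ≤ tn S M μ x := fun y hy => by
  refine ⟨h.QS hy, mem_centralizer_singleton_iff.2 ?_⟩
  have h1 : y ∈ centralizer (V : Set G) := by
    have := h.Q_eq ▸ hy
    exact this.2
  exact (mem_centralizer_iff.1 h1 _ (pr_mem M _ _)).symm

/-- the elements of `T` acting as `(c μ(c))` -/
theorem exists_swap [Finite G] {c : Pt k m} (hc : c.2 ≠ 0) : ∃ s ∈ tn S M μ x, pp M s = Equiv.swap c (μ c) := by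
  have hmem : Equiv.swap c (μ c) ∈ F.FA := by
    intro y
    by_cases h1 : y = c
    · rw [h1, Equiv.swap_apply_left]; exact Or.inr rfl
    by_cases h2 : y = μ c
    · rw [h2, Equiv.swap_apply_right, F.msq]; exact Or.inr rfl
    · rw [Equiv.swap_apply_of_ne_of_ne h1 h2]; exact Or.inl rfl
  obtain ⟨s, hs, e⟩ := Fours.exists_A h.toSit F hmem
  refine ⟨s, ⟨hs.1, mem_centralizer_singleton_iff.2 (h.comm_pr (h.SP hs.1) (F.mfst x).symm ?_)⟩, e⟩
  rw [e]
  by_cases h1 : x = c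
  · right
    rw [← h1, Equiv.swap_apply_left, Equiv.swap_apply_right]
    exact ⟨rfl, rfl⟩
  by_cases h2 : x = μ c
  · right
    have h3 : c = μ x := by rw [h2, F.msq]
    rw [← h3, ← h2, Equiv.swap_apply_right, Equiv.swap_apply_left]
    exact ⟨rfl, rfl⟩
  · left
    have h3 : μ x ≠ c := fun e => h2 (by rw [← e, F.msq])
    have h4 : μ x ≠ μ c := fun e => h1 (μ.injective e)
    exact ⟨Equiv.swap_apply_of_ne_of_ne h1 h2, Equiv.swap_apply_of_ne_of_ne h3 h4⟩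

variable (zv : zc (o2 P) ≤ V)
include zv

/-- `C(T)` : involutions centralising `Q` lie in `V` -/
theorem mem_V_of {z : G} (hz : z * z = 1) (hQ : ∀ y ∈ o2 P, y * z = z * y) : z ∈ V :=
  zv (mem_zc.2 ⟨h.cQ (mem_centralizer_iff.2 fun y hy => hQ y hy), fun y hy => hQ y hy, by rw [pow_two]; exact hz⟩)

theorem zc_tn_le : zc (tn S M μ x) ≤ V := fun z hz => by
  have h1 := mem_zc.1 hz
  exact h.mem_V_of F hx zv (by rw [← pow_two]; exact h1.2.2) fun y hy => h1.2.1 y (h.Q_le_tn F hx hy)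

theorem zc_tn_mu [Finite G] {z : G} (hz : z ∈ zc (tn S M μ x)) (c : Pt k m) : E M z (μ c) = E M z c := by
  by_cases hc : c.2 = 0
  · rw [F.mzero c hc]
  obtain ⟨s, hs, e⟩ := h.exists_swap F hx hc
  have h1 := (h.comm_iff (h.SP hs.1) (h.zc_tn_le F hx zv hz)).1 ((mem_zc.1 hz).2.1 s hs) c
  rwa [e, Equiv.swap_apply_left] at h1

theorem zc_tn_zero [Finite G] {z : G} (hz : z ∈ zc (tn S M μ x)) (i : Fin k) : E M z (i, 0) = 0 := by
  have hzV := h.zc_tn_le F hx zv hz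
  have h1 : ∑ y, E M z (i, y) = 0 := M.even z hzV i
  have h2 : ∑ y ∈ Finset.univ.erase (0 : Fin (2 ^ m + 1)), E M z (i, y) = 0 := by
    refine Finset.sum_involution (fun y _ => (μ (i, y)).2) ?_ ?_ ?_ ?_
    · intro y _
      have e : ((i, (μ (i, y)).2) : Pt k m) = μ (i, y) := Prod.ext (F.mfst (i, y)).symm rfl
      rw [e, h.zc_tn_mu F hx zv hz]
      exact CharTwo.add_self_eq_zero _
    · intro y hy hne e
      have hy0 : ((i, y) : Pt k m).2 ≠ 0 := (Finset.mem_erase.1 hy).1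
      exact F.mne (i, y) hy0 (Prod.ext (F.mfst (i, y)) e)
    · intro y hy
      have hy0 : ((i, y) : Pt k m).2 ≠ 0 := (Finset.mem_erase.1 hy).1
      exact Finset.mem_erase.2 ⟨fun e => hy0 (F.mnz.1 e), Finset.mem_univ _⟩
    · intro y hy
      have e : ((i, (μ (i, y)).2) : Pt k m) = μ (i, y) := Prod.ext (F.mfst (i, y)).symm rfl
      show (μ (i, (μ (i, y)).2)).2 = y
      rw [e, F.msq]
  rw [← Finset.add_sum_erase _ _ (Finset.mem_univ (0 : Fin (2 ^ m + 1))), h2, add_zero] at h1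
  exact h1

/-- `Ω₁Z(T) = ⟨n⟩ Z₀` -/
theorem hdec [Finite G] {z : G} (hz : z ∈ zc (tn S M μ x)) : ∃ v ∈ ln (h.line3 (h.tri F hx)), ∃ c,
    (∀ y ∈ h.X3 (h.tri F hx), y * c = c * y) ∧ (∀ t ∈ tn S M μ x, t * c = c * t) ∧ z = v * c := by
  have t := h.tri F hx
  have hzV := h.zc_tn_le F hx zv hz
  have h0 := h.zc_tn_zero F hx zv hz x.1
  have h1 := h.zc_tn_mu F hx zv hz x
  by_cases hE : E M z x = 0
  · refine ⟨1, one_mem _, z, fun y hy => h.X_comm t hzV h1.symm (by rw [hE, h0]) hy, (mem_zc.1 hz).2.1,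
      (one_mul z).symm⟩
  · have hE1 : E M z x = 1 := by
      have : ∀ y : ZMod 2, y ≠ 0 → y = 1 := by decide
      exact this _ hE
    have hn := pr_mem M x (μ x)
    have hV := mul_mem hn hzV
    have hadd := Half.SymA.E_mul M hn hzV
    refine ⟨pr M x (μ x), (h.line3 t).dd_mem 0, pr M x (μ x) * z, fun y hy => h.X_comm t hV ?_ ?_ hy, ?_, ?_⟩
    · rw [hadd, hadd, E_pr_left M t.pq t.n1, E_pr_right M t.pq t.n1, h1]
    · rw [hadd, hadd, E_pr_left M t.pq t.n1, E_pr_of_ne M t.pq t.n2.symm t.n3.symm, h0, hE1]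
      decide
    · intro s hs
      have k1 := (mem_zc.1 hz).2.1 s hs
      have k2 := mem_centralizer_singleton_iff.1 hs.2
      calc s * (pr M x (μ x) * z) = (s * pr M x (μ x)) * z := by group
        _ = pr M x (μ x) * (s * z) := by rw [k2]; group
        _ = pr M x (μ x) * z * s := by rw [k1]; group
    · rw [← mul_assoc, h.pr_sq, one_mul]

end Fr

end Cfsg.Agent.Omega.IId.SymWr.Ht

end

section


/-!
# II.d, `SwBig`, T-T: LEMMA J (bb OMEGA #20002, helper666) and the structure `HTT` over `T = C_S(n)`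

Hypotheses: `zv` : `Ω₁Z(O₂(P)) ≤ V`; `syl` : `T` has odd index in `C_G(n)`.
* `Fr.lemJ` : `K` normalised by `T` and `X`, `N_K(V_l)` trivial on `V_l`, `⟹` `T` has odd index in `T K`;
* `Fr.htt` : `HTT T (T ⊔ X) V_l R 0`; `Fr.core` : `Core` for every `z ∈ Z₀`.
-/

set_option autoImplicit false
set_option linter.unusedSectionVars false

namespace Cfsg.Agent.Omega.IId.SymWr.Ht

open Subgroup Cfsg Cfsg.Agent.Omega.MinPar Cfsg.Agent.Omega.FFThm
open Cfsg.Agent.ZN (o2 zc)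
open Cfsg.Agent.Omega.Half (Amb amb_of_loc)
open Cfsg.Agent.Omega.Half.SymA (Pt E Mv pm)
open Cfsg.Agent.Omega.HT.LineOf (Ln ln pts dd)
open Cfsg.Agent.Omega.BTwo (BT XX WW QQ O2)
open Cfsg.Agent.MinSimple.VModule (le_normalizer_o2 o2_isPGroup o2_le mem_zc zc_le)

universe u

variable {G : Type u} [Group G] [Finite G] {k m : ℕ}

namespace Fr

variable {S : Sylow 2 G} {P V : Subgroup G} {M : SymK (S : Subgroup G) P V ⊥ k m} (h : Fr S P V M)
  {μ ν : Equiv.Perm (Pt k m)} (F : Fours M μ ν) {x : Pt k m} (hx : x.2 ≠ 0)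
  (zv : zc (o2 P) ≤ V) (syl : ¬ 2 ∣ (tn S M μ x).relIndex (centralizer ({pr M x (μ x)} : Set G)))
include h F hx zv syl

omit h F hx zv syl in
theorem tn_p : IsPGroup 2 (tn S M μ x) := S.isPGroup'.to_le inf_le_left

/-- **LEMMA J** -/
theorem lemJ {K : Subgroup G} (hT : tn S M μ x ≤ normalizer (K : Set G))
    (hK : ∀ g ∈ K, g ∈ normalizer (ln (h.line3 (h.tri F hx)) : Set G) →
      g ∈ centralizer (ln (h.line3 (h.tri F hx)) : Set G)) :
    ¬ 2 ∣ (tn S M μ x).relIndex (tn S M μ x ⊔ K) := by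
  have t := h.tri F hx
  intro hdvd
  obtain ⟨R, hTR, hRle, hR, hRodd⟩ := HT.exists_syl (S := tn S M μ x) (P := tn S M μ x ⊔ K) tn_p le_sup_left
  have hlt : tn S M μ x < R := by
    refine lt_of_le_of_ne hTR fun e => hRodd ?_
    rw [← e]; exact hdvd
  obtain ⟨g, hgR, hgN, hgT, hg2⟩ := MinSimple.Choice97.exists_normalizing hR hlt
  obtain ⟨s, hs, b, hb, rfl⟩ := mem_sup_norm hT (hRle hgR)
  -- `b` normalises `T`
  have hbN : b ∈ normalizer (tn S M μ x : Set G) := by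
    have h1 := mul_mem (inv_mem (le_normalizer hs)) hgN
    rwa [inv_mul_cancel_left] at h1
  have hbT : b ∉ tn S M μ x := fun e => hgT (mul_mem hs e)
  have hbR : b ∈ R := by
    have h1 := mul_mem (inv_mem (hTR hs)) hgR
    rwa [inv_mul_cancel_left] at h1
  have hTb : ∀ c ∈ tn S M μ x, b * c * b⁻¹ ∈ tn S M μ x := fun c hc => (mem_normalizer_iff.1 hbN c).1 hc
  have hTb' : ∀ c ∈ tn S M μ x, b⁻¹ * c * b ∈ tn S M μ x := fun c hc => by
    have := (mem_normalizer_iff.1 (inv_mem hbN) c).1 hc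
    rwa [inv_inv] at this
  have hKs : ∀ c ∈ tn S M μ x, ∀ y ∈ K, c * y * c⁻¹ ∈ K := fun c hc y hy => (mem_normalizer_iff.1 (hT hc) y).1 hy
  -- `[b, c] ∈ K ∩ T`
  have hcomm : ∀ c ∈ tn S M μ x, c⁻¹ * b * c * b⁻¹ ∈ K ⊓ tn S M μ x := fun c hc => by
    refine mem_inf.2 ⟨?_, ?_⟩
    · have h1 := hKs c⁻¹ (inv_mem hc) b hb
      rw [inv_inv] at h1
      exact mul_mem h1 (inv_mem hb)
    · have h1 := mul_mem (inv_mem hc) (hTb c hc)
      have e : c⁻¹ * (b * c * b⁻¹) = c⁻¹ * b * c * b⁻¹ := by group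
      rwa [e] at h1
  -- the elements of `V` commuting with `K ∩ T`
  have hW : ∀ v ∈ V, (∀ c ∈ K ⊓ tn S M μ x, c * v = v * c) →
      b * v * b⁻¹ ∈ V ∧ ∀ c ∈ K ⊓ tn S M μ x, c * (b * v * b⁻¹) = b * v * b⁻¹ * c := by
    intro v hv hc
    have hb1 : ∀ c ∈ K ⊓ tn S M μ x, b⁻¹ * c * b ∈ K ⊓ tn S M μ x := fun c hc =>
      mem_inf.2 ⟨mul_mem (mul_mem (inv_mem hb) hc.1) hb, hTb' c hc.2⟩
    have hcom : ∀ c ∈ K ⊓ tn S M μ x, c * (b * v * b⁻¹) = b * v * b⁻¹ * c := by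
      intro c hc1
      have h1 := hc _ (hb1 c hc1)
      calc c * (b * v * b⁻¹) = b * (b⁻¹ * c * b * v) * b⁻¹ := by group
        _ = b * (v * (b⁻¹ * c * b)) * b⁻¹ := by rw [h1]
        _ = b * v * b⁻¹ * c := by group
    refine ⟨h.mem_V_of F hx zv ?_ ?_, hcom⟩
    · have hvv := h.Vsq hv
      calc b * v * b⁻¹ * (b * v * b⁻¹) = b * (v * v) * b⁻¹ := by group
        _ = 1 := by rw [hvv]; group
    · intro y hy
      have hyT := h.Q_le_tn F hx hy
      have hyv : y * v = v * y := by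
        have h1 : y ∈ centralizer (V : Set G) := by
          have := h.Q_eq ▸ hy
          exact this.2
        exact (mem_centralizer_iff.1 h1 v hv).symm
      have h1 : b⁻¹ * (y⁻¹ * b * y * b⁻¹) * b ∈ K ⊓ tn S M μ x := hb1 _ (hcomm y hyT)
      have h2 := hc _ h1
      -- `b⁻¹ y b = y (b⁻¹ y⁻¹ b y b⁻¹ b)⁻¹ ...`
      have e1 : b⁻¹ * y * b = y * (b⁻¹ * (y⁻¹ * b * y * b⁻¹) * b)⁻¹ := by group
      have h3 : (b⁻¹ * (y⁻¹ * b * y * b⁻¹) * b)⁻¹ * v = v * (b⁻¹ * (y⁻¹ * b * y * b⁻¹) * b)⁻¹ :=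
        ((show Commute _ v from h2).inv_left).eq
      have h4 : b⁻¹ * y * b * v = v * (b⁻¹ * y * b) := by
        rw [e1, mul_assoc, h3, ← mul_assoc, hyv, mul_assoc]
      calc y * (b * v * b⁻¹) = b * (b⁻¹ * y * b * v) * b⁻¹ := by group
        _ = b * (v * (b⁻¹ * y * b)) * b⁻¹ := by rw [h4]
        _ = b * v * b⁻¹ * y := by group
  -- the points of the line
  have hT1 : ∀ v ∈ ln (h.line3 t), ∀ c ∈ K ⊓ tn S M μ x, c * v = v * c := fun v hv c hc =>
    (mem_centralizer_iff.1 (hK c hc.1 (h.tn_norm F hx hc.2)) v hv).symm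
  have hAl : pr M x (μ x) ∈ ln (h.line3 t) := (h.line3 t).dd_mem 0
  have hBl : pr M x (x.1, 0) ∈ ln (h.line3 t) := (h.line3 t).dd_mem 1
  obtain ⟨hA', -⟩ := hW _ (pr_mem M _ _) (hT1 _ hAl)
  obtain ⟨hB', hB''⟩ := hW _ (pr_mem M _ _) (hT1 _ hBl)
  obtain ⟨A, hA⟩ : ∃ A, A = pr M x (μ x) := ⟨_, rfl⟩
  obtain ⟨B, hB⟩ : ∃ B, B = pr M x (x.1, 0) := ⟨_, rfl⟩
  rw [← hA] at hA'
  rw [← hB] at hB' hB''
  -- the transposition
  obtain ⟨τ, hτ, hτp⟩ := h.exists_swap F hx hx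
  have hτP := h.SP hτ.1
  have hEB : E M B x ≠ E M B (μ x) := by
    rw [hB, E_pr_left M t.pr t.n2, E_pr_of_ne M t.pr t.n1.symm t.n3]
    exact one_ne_zero
  have hBV : B ∈ V := by rw [hB]; exact pr_mem M _ _
  have k1 : τ * B * τ⁻¹ = B * A := by
    rw [h.conj_swap hτP t.pq hτp hBV hEB, hA]
  -- `b τ b⁻¹ = τ c`
  obtain ⟨c, hc⟩ : ∃ c, c = τ⁻¹ * b * τ * b⁻¹ := ⟨_, rfl⟩
  have hcK : c ∈ K ⊓ tn S M μ x := by rw [hc]; exact hcomm τ hτ
  have k2 : τ * (b * B * b⁻¹) * τ⁻¹ = b * B * b⁻¹ * (b * A * b⁻¹) := by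
    have k3 := hB'' c hcK
    calc τ * (b * B * b⁻¹) * τ⁻¹ = τ * (b * B * b⁻¹ * c) * c⁻¹ * τ⁻¹ := by group
      _ = τ * (c * (b * B * b⁻¹)) * c⁻¹ * τ⁻¹ := by rw [k3]
      _ = b * (τ * B * τ⁻¹) * b⁻¹ := by rw [hc]; group
      _ = b * B * b⁻¹ * (b * A * b⁻¹) := by rw [k1]; group
  have hA1 : A ≠ 1 := by rw [hA]; exact h.pr_ne t.pq t.n1
  have hbA1 : b * A * b⁻¹ ≠ 1 := fun e => hA1 (conj_eq_one_iff.1 e)
  have k4 : b * A * b⁻¹ = A := by
    by_cases hE : E M (b * B * b⁻¹) x = E M (b * B * b⁻¹) (μ x)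
    · exfalso
      have h1 := h.comm_perp_of (p := x) (q := μ x) hτP (Or.inr hτp) hB' hE
      rw [h1, mul_inv_cancel_right] at k2
      exact hbA1 (mul_left_cancel (k2.symm.trans (mul_one _).symm))
    · have h1 := h.conj_swap hτP t.pq hτp hB' hE
      rw [h1, ← hA] at k2
      exact (mul_left_cancel k2).symm
  -- `T ⟨b⟩ ≤ C(n)`
  have hbC : b ∈ centralizer ({pr M x (μ x)} : Set G) := by
    rw [← hA, mem_centralizer_singleton_iff]
    exact mul_inv_eq_iff_eq_mul.1 k4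
  have hle : tn S M μ x ⊔ zpowers b ≤ centralizer ({pr M x (μ x)} : Set G) :=
    sup_le inf_le_right (by rw [zpowers_le]; exact hbC)
  have hp : IsPGroup 2 (tn S M μ x ⊔ zpowers b : Subgroup G) :=
    hR.to_le (sup_le hTR (by rw [zpowers_le]; exact hbR))
  have h1 := HT.card_dvd_card (inf_le_right : tn S M μ x ≤ _) syl hp hle
  have h2 : tn S M μ x = tn S M μ x ⊔ zpowers b := eq_of_le_of_card_ge le_sup_left (Nat.le_of_dvd Nat.card_pos h1)
  exact hbT (h2.symm.le (mem_sup_right (mem_zpowers b)))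

/-- LEMMA J in the form of `LineOf.loc_of`, `LineOf.core_of_J` -/
theorem lemJ' {K : Subgroup G} (hT : tn S M μ x ≤ normalizer (K : Set G))
    (hX : h.X3 (h.tri F hx) ≤ normalizer (K : Set G))
    (hK : ∀ g ∈ K, ∃ n : ℕ, g ^ 2 ^ n ∈ centralizer (ln (h.line3 (h.tri F hx)) : Set G)) :
    ¬ 2 ∣ (tn S M μ x).relIndex (tn S M μ x ⊔ K) :=
  h.lemJ F hx zv syl hT fun _ hg hgN =>
    (h.line3 (h.tri F hx)).cen_of (h.bt3 (h.tri F hx)) hX (fun g hg _ => hK g hg) hg hgN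

/-- the structure `HTT` over `T = C_S(n)` -/
theorem htt : HT.HTT (tn S M μ x) (tn S M μ x ⊔ h.X3 (h.tri F hx)) (ln (h.line3 (h.tri F hx)))
    (pts (pr M x (μ x)) (pr M x (x.1, 0))) 0 := by
  have t := h.tri F hx
  refine (h.line3 t).htt (h.bt3 t) h.char2 tn_p syl inf_le_right (h.tn_norm F hx)
    (fun z hz => h.hdec F hx zv hz) ?_
  intro M' hTM hXM _ _
  exact HT.LineOf.loc_of (h.line3 t) (h.bt3 t) tn_p (h.tn_norm F hx)
    (fun K h1 h2 h3 => h.lemJ' F hx zv syl h1 h2 h3) hTM hXM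

/-- the point `R 0` -/
theorem R_zero : ∀ y, y ∈ pts (pr M x (μ x)) (pr M x (x.1, 0)) 0 ↔ y = 1 ∨ y = pr M x (μ x) := fun _ =>
  (h.line3 (h.tri F hx)).mem_pts

/-- `O₂(M_z / C(U_z)) = 1` for every `z ∈ Z₀` -/
theorem core {z : G} (hz : z ∈ zc (tn S M μ x) ⊓
    centralizer ((tn S M μ x ⊔ h.X3 (h.tri F hx) : Subgroup G) : Set G)) :
    HT.Main.Core (ln (h.line3 (h.tri F hx))) (pts (pr M x (μ x)) (pr M x (x.1, 0))) 0 (pr M x (μ x)) z :=
  HT.LineOf.core_of_J (h.htt F hx zv syl) (h.R_zero F hx zv syl) hz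
    fun K h1 h2 h3 => h.lemJ' F hx zv syl h1 h2 h3

end Fr

end Cfsg.Agent.Omega.IId.SymWr.Ht

end

section


/-!
# II.d, `SwBig`, T-T: the sibling `34` of the duad `12`

* `mem_tn_iff` : `T = C_S(12)` is the stabiliser of `{1, 2}` in `S`; `tn_nu` : `C_S(12) = C_S(34)`;
* `Fr.sib_mem` : `34 ∈ Z₀`; `Fr.odd_MZ` : `T` has odd index in `⟨C(Ω₁Z(T)), X⟩`.
-/

set_option autoImplicit false
set_option linter.unusedSectionVars false

namespace Cfsg.Agent.Omega.IId.SymWr.Ht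

open Subgroup Cfsg Cfsg.Agent.Omega.MinPar Cfsg.Agent.Omega.FFThm
open Cfsg.Agent.ZN (o2 zc)
open Cfsg.Agent.Omega.Half (Amb amb_of_loc)
open Cfsg.Agent.Omega.Half.SymA (Pt E Mv pm)
open Cfsg.Agent.Omega.HT.LineOf (Ln ln pts dd)
open Cfsg.Agent.Omega.BTwo (BT XX WW QQ O2)
open Cfsg.Agent.MinSimple.VModule (le_normalizer_o2 o2_isPGroup o2_le mem_zc zc_le)

universe u

variable {G : Type u} [Group G] [Finite G] {k m : ℕ}

namespace Fr

variable {S : Sylow 2 G} {P V : Subgroup G} {M : SymK (S : Subgroup G) P V ⊥ k m} (h : Fr S P V M)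
  {μ ν : Equiv.Perm (Pt k m)} (F : Fours M μ ν) {x : Pt k m} (hx : x.2 ≠ 0)
include h F hx

theorem mem_tn_iff {s : G} : s ∈ tn S M μ x ↔ s ∈ (S : Subgroup G) ∧ (pp M s x = x ∨ pp M s x = μ x) := by
  constructor
  · intro hs
    refine ⟨hs.1, ?_⟩
    rcases h.tn_pp F hx hs with e | e
    · exact Or.inl e.1
    · exact Or.inr e.1
  · rintro ⟨hs, e⟩
    refine mem_inf.2 ⟨hs, mem_centralizer_singleton_iff.2 (h.comm_pr (h.SP hs) (F.mfst x).symm ?_)⟩
    have h1 := F.meqv s hs x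
    rcases e with e | e
    · left
      rw [e] at h1
      exact ⟨e, h1⟩
    · right
      rw [e, F.msq] at h1
      exact ⟨e, h1⟩

theorem nu_ne : (ν x).2 ≠ 0 := fun e => hx (F.nnz.1 e)

/-- `C_S(12) = C_S(34)` -/
theorem tn_nu : tn S M μ (ν x) = tn S M μ x := by
  have hn := h.nu_ne F hx
  have key : ∀ {y : Pt k m}, y.2 ≠ 0 → ∀ s ∈ (S : Subgroup G), (pp M s y = y ∨ pp M s y = μ y) →
      (pp M s (ν y) = ν y ∨ pp M s (ν y) = μ (ν y)) := by
    intro y hy s hs e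
    rcases F.neqv s hs y with e1 | e1 <;> rcases e with e | e <;> rw [e] at e1
    · exact Or.inl e1
    · exact Or.inr (e1.trans (F.comm y).symm)
    · exact Or.inr e1
    · left
      rw [e1, ← F.comm, F.msq]
  ext s
  rw [h.mem_tn_iff F hx, h.mem_tn_iff F hn]
  constructor
  · rintro ⟨hs, e⟩
    refine ⟨hs, ?_⟩
    have h1 := key hn s hs e
    rwa [F.nsq] at h1
  · rintro ⟨hs, e⟩
    exact ⟨hs, key hx s hs e⟩

/-- the elements of `V` which vanish on the line and commute with `T` lie in `Z₀` -/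
theorem mem_Z0 {c : G} (hc : c ∈ V) (hT : ∀ s ∈ tn S M μ x, s * c = c * s) (h1 : E M c x = 0)
    (h2 : E M c (μ x) = 0) (h3 : E M c (x.1, 0) = 0) :
    c ∈ zc (tn S M μ x) ⊓ centralizer ((tn S M μ x ⊔ h.X3 (h.tri F hx) : Subgroup G) : Set G) := by
  refine mem_inf.2 ⟨mem_zc.2 ⟨h.V_le_tn F hx hc, hT, by rw [pow_two]; exact h.Vsq hc⟩, ?_⟩
  have hle : tn S M μ x ⊔ h.X3 (h.tri F hx) ≤ centralizer ({c} : Set G) := by
    refine sup_le (fun s hs => mem_centralizer_singleton_iff.2 (hT s hs)) fun y hy =>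
      mem_centralizer_singleton_iff.2 (h.X_comm (h.tri F hx) hc (by rw [h1, h2]) (by rw [h1, h3]) hy)
  exact mem_centralizer_iff.2 fun y hy => mem_centralizer_singleton_iff.1 (hle hy)

/-- `34 ∈ Z₀` -/
theorem sib_mem : pr M (ν x) (μ (ν x)) ∈ zc (tn S M μ x) ⊓
    centralizer ((tn S M μ x ⊔ h.X3 (h.tri F hx) : Subgroup G) : Set G) := by
  have hn := h.nu_ne F hx
  have e1 : (ν x).1 = (μ (ν x)).1 := (F.mfst _).symm
  refine h.mem_Z0 F hx (pr_mem M _ _) (fun s hs => ?_) ?_ ?_ ?_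
  · rw [← h.tn_nu F hx] at hs
    exact mem_centralizer_singleton_iff.1 hs.2
  · refine E_pr_of_ne M e1 (fun e => F.nne x hx e.symm) (fun e => F.nmu x hx ?_)
    have := congrArg μ e
    rw [F.msq] at this
    exact this.symm
  · refine E_pr_of_ne M e1 (fun e => F.nmu x hx e.symm) (fun e => F.nne x hx (μ.injective e).symm)
  · refine E_pr_of_ne M e1 (fun e => hn ?_) (fun e => hn ?_)
    · rw [← e]
    · rw [← F.mnz, ← e]

theorem sib_ne : pr M (ν x) (μ (ν x)) ≠ 1 :=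
  h.pr_ne (F.mfst _).symm (F.mne _ (h.nu_ne F hx)).symm

variable (zv : zc (o2 P) ≤ V)
  (syl : ∀ {y : Pt k m}, y.2 ≠ 0 → ¬ 2 ∣ (tn S M μ y).relIndex (centralizer ({pr M y (μ y)} : Set G)))
include zv syl

/-- `T` has odd index in `⟨C(Ω₁Z(T)), X⟩` -/
theorem odd_MZ : ¬ 2 ∣ (tn S M μ x).relIndex
    (HT.JunAB.MZ (tn S M μ x) (ln (h.line3 (h.tri F hx))) (pts (pr M x (μ x)) (pr M x (x.1, 0)))) := by
  have hn := h.nu_ne F hx
  have b := h.htt F hx zv (syl hx)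
  have h1 := HT.JunAB.MZ_le b (h.sib_mem F hx)
  have h2 : tn S M μ x ≤
      HT.JunAB.MZ (tn S M μ x) (ln (h.line3 (h.tri F hx))) (pts (pr M x (μ x)) (pr M x (x.1, 0))) := by
    refine le_trans (fun t ht => ?_) le_sup_left
    exact mem_centralizer_iff.2 fun y hy => ((mem_zc.1 hy).2.1 t ht).symm
  intro hd
  apply syl hn
  rw [h.tn_nu F hx, ← relIndex_mul_relIndex _ _ _ h2 h1]
  exact hd.mul_right _

end Fr

end Cfsg.Agent.Omega.IId.SymWr.Ht

end

section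


/-!
# II.d, `SwBig`, `T`-`T`: LEMMA E over `T = C_S(n)` in the frame `Ht.Fr` (bb OMEGA #19821, (LE))
-/

set_option autoImplicit false

namespace Cfsg.Agent.Omega.IId.SymWr.Ht.LEFr

open Subgroup Cfsg Cfsg.Agent.Omega.MinPar Cfsg.Agent.Omega.FFThm
open Cfsg.Agent.ZN (o2 zc)
open Cfsg.Agent.Omega.Half.SymA (Pt E Mv pm)
open Cfsg.Agent.Omega.HT.LineOf (Ln ln pts dd)
open Cfsg.Agent.Omega.BTwo (BTS XX WW QQ O2)
open Cfsg.Agent.Omega.HTwo (ThmA.LE)

universe u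

variable {G : Type u} [Group G] [Finite G] {k m : ℕ} {S : Sylow 2 G} {P V : Subgroup G}
  {M : SymK (S : Subgroup G) P V ⊥ k m} (h : Fr S P V M)

include h

/-- the facts about duads -/
theorem dd_of : LE.Dd M where
  act := fun _ _ e1 e2 _ hg => ⟨h.Qle e1 e2 hg, h.Qpp e1 e2 hg⟩
  V_le := fun _ _ e1 e2 => h.V_le e1 e2
  perp := fun _ _ e1 e2 _ hv hE _ hg => h.perp_comm e1 e2 hg hv hE

/-- **LEMMA E for the line of three letters** -/
theorem le3 (zv : zc (o2 P) ≤ V) {p q r : Pt k m} (t : Tri p q r)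
    (B : BTS (ln (h.line3 t)) (pts (pr M p q) (pr M p r)))
    (hTL : (S : Subgroup G) ⊓ centralizer ({pr M p q} : Set G) ≤ normalizer (ln (h.line3 t) : Set G))
    (hQS : o2 (centralizer ({pr M p q} : Set G)) ≤ (S : Subgroup G)) (j : Fin 3) :
    Cfsg.Agent.Omega.HTwo.ThmA.LE (ln (h.line3 t)) (pts (pr M p q) (pr M p r)) j := by
  refine LE.le_all h.toSit (dd_of h) zv t.pq t.pr t.n1 t.n2 t.n3 B (i0 := 0) (i1 := 1) (i2 := 2) rfl rfl ?_ hTL
    hQS j
  show zpowers (dd (pr M p q) (pr M p r) 2) = _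
  rw [show dd (pr M p q) (pr M p r) 2 = pr M q r from h.dd_two t]

/-- **LEMMA E over `T = C_S(n)`**, `n = pr M x (μ x)` an `S`-duad -/
theorem le_tn (zv : zc (o2 P) ≤ V) {μ ν : Equiv.Perm (Pt k m)} (F : Fours M μ ν) {x : Pt k m} (hx : x.2 ≠ 0)
    (B : BTS (ln (h.line3 (h.tri F hx))) (pts (pr M x (μ x)) (pr M x (x.1, 0))))
    (syl : ¬ 2 ∣ (tn S M μ x).relIndex (centralizer ({pr M x (μ x)} : Set G))) (j : Fin 3) :
    Cfsg.Agent.Omega.HTwo.ThmA.LE (ln (h.line3 (h.tri F hx))) (pts (pr M x (μ x)) (pr M x (x.1, 0))) j := by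
  refine le3 h zv (h.tri F hx) B (h.tn_norm F hx) ?_ j
  have h1 : o2 (centralizer ({pr M x (μ x)} : Set G)) ≤ tn S M μ x :=
    HT.LemE.le_of_odd (S.isPGroup'.to_le inf_le_left) inf_le_right syl
      (MinSimple.VModule.o2_isPGroup _) (MinSimple.VModule.o2_le _)
      (inf_le_right.trans (MinSimple.VModule.le_normalizer_o2 _))
  exact h1.trans inf_le_left

end Cfsg.Agent.Omega.IId.SymWr.Ht.LEFr

end
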