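import Cfsg.Agent.Mrg.Omega.IId.SymWr.Ht.End
import Cfsg.Agent.Mrg.Omega.IId.SymWr.Ht.Line


/-!
# II.d, `SwBig`, T-T (bb OMEGA #19775, #19821, #19862, #20093, #20414): the frame `Ht.Fr` does not exist

`Fr.false` : `V` = the sum of `k` even-subset modules of degree `2 ^ m + 1` (`m ≥ 2`; `k ≥ 2` or `m ≥ 3`), (H1), and a
non-commuting pair `V`, `V ^ t`, `t ∈ C_G(n)`, `n` a duad: contradiction.
-/

set_option autoImplicit false

namespace Cfsg.Agent.Omega.IId.SymWr.Ht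

open Subgroup Cfsg Cfsg.Agent.Omega.FFThm
open Cfsg.Agent.Omega.Half.SymA (Pt)

universe u

variable {G : Type u} [Group G] [Finite G] {k m : ℕ} {S : Sylow 2 G} {P V : Subgroup G}
  {M : SymK (S : Subgroup G) P V ⊥ k m}

/-- **no T-T partner** -/
theorem Fr.false (h : Fr S P V M) (hkm : 2 ≤ k ∨ 3 ≤ m) : False := by
  obtain ⟨μ, ν, F⟩ := exists_fours h.toSit
  obtain ⟨c, -, hc⟩ := Half.SymA.exists_third h.hm1 0 0
  obtain ⟨x, hx⟩ : ∃ x : Pt k m, x.2 ≠ 0 := ⟨(⟨0, h.hk⟩, c), hc⟩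
  have syl : ¬ 2 ∣ (tn S M μ x).relIndex (centralizer ({pr M x (μ x)} : Set G)) := h.syl F hx
  exact h.false_of_le F hx h.zv.le hkm fun i =>
    LEFr.le_tn h h.zv.le F hx (h.htt F hx h.zv.le syl).toBTS syl i

end Cfsg.Agent.Omega.IId.SymWr.Ht
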